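import Groth.Agent.CurveFF.Duality
import Groth.Agent.CurveFF.GenEtale
import Groth.Agent.CurveFF.GenusLe
import Groth.Agent.FF.Clifford
import Groth.Agent.CurveLib.GlobalFun
import Groth.Agent.S4466
import Groth.Agent.S7640
import Groth.Agent.AmpleEmb.TwistOne
import Groth.Agent.AmpleLib.Pullback
import Groth.Agent.FactorSeqLib.Basic

/-!
# Degrees of nondegenerate maps to projective space
-/

set_option autoImplicit false
set_option backward.isDefEq.respectTransparency false
set_option backward.isDefEq.respectTransparency.types false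
set_option linter.style.haveILetI false
set_option maxHeartbeats 1000000

universe u

open CategoryTheory CategoryTheory.Limits AlgebraicGeometry

noncomputable section

namespace Groth.Agent.CurveFormsLib

variable {k : Type u} [Field k] {X : Scheme.{u}} [X.Over (Spec (CommRingCat.of k))]
  [IsProper (X ↘ Spec (CommRingCat.of k))] [IsIntegral X]

/-- A nondegenerate map to projective space gives `r + 1` sections. -/
theorem succ_le_h0_of_nondeg {r : ℕ} (i : X ⟶ CohB1.ProjSpace r k)
    (hi : i ≫ CohB1.ProjSpace.toSpec r k = (X ↘ (Spec (CommRingCat.of k))))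
    (hplane : ∀ s : LinSer.Sect (CohB1.ProjSpace r k) (Twist.twistProjSpace r k 1), s ≠ 0 →
      OmegaSh.pullSect i (Twist.twistProjSpace r k 1) ⊤ s ≠ 0) :
    PicF.IsInvertible ((Scheme.Modules.pullback i).obj (Twist.twistProjSpace r k 1)) ∧
      r + 1 ≤ Module.finrank k (Coh.HH X ((Scheme.Modules.pullback i).obj (Twist.twistProjSpace r k 1)) 0) := by
  haveI := EulerIneqLib.isNoetherian_proper (X := X) k
  let P := CohB1.ProjSpace r k
  let O1 : P.Modules := Twist.twistProjSpace r k 1
  let L := (Scheme.Modules.pullback i).obj O1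
  have hL : PicF.IsInvertible L := AmpleLib.isInvertible_pullback i (AmpleEmb.isInvertible_twistOne r k)
  haveI := EulerIneqLib.finite_HH (k := k) (CurveLib.isCoh_of_isInvertible hL) 0
  let pS : Coh.HH P O1 0 → LinSer.Sect X L := fun x => OmegaSh.pullSect i O1 ⊤ (CurveLib.secOf O1 x)
  have hadd : ∀ a b, pS (a + b) = pS a + pS b := fun a b =>
    (congrArg (OmegaSh.pullSect i O1 ⊤) (map_add (CurveLib.secOf O1) a b)).trans (map_add _ _ _)
  have hsm : ∀ (c : k) (x : Coh.HH P O1 0), pS (c • x) =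
      (Coh.toGlobal (X ↘ Spec (CommRingCat.of k)) c) • pS x := by
    intro c x
    show OmegaSh.pullSect i O1 ⊤ _ = _
    rw [CurveLib.secOf_smul (k := k) O1 c x]
    refine (Scheme.Modules.Hom.app_smul ((Scheme.Modules.pullbackPushforwardAdjunction i).unit.app O1)
      (Coh.toGlobal (P ↘ Spec (CommRingCat.of k)) c) _).trans ?_
    rw [show Coh.toGlobal (X ↘ Spec (CommRingCat.of k)) c = i.app ⊤ (Coh.toGlobal (P ↘ Spec (CommRingCat.of k)) c) from by
      rw [← hi]; exact RingHom.congr_fun (ProjCoh.toGlobal_comp (CohB1.ProjSpace.toSpec r k) i) c]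
    rfl
  let F : Coh.HH P O1 0 →ₗ[k] Coh.HH X L 0 :=
    { toFun := fun x => (CurveLib.secOf L).symm (pS x)
      map_add' := fun a b => (congrArg _ (hadd a b)).trans (map_add _ _ _)
      map_smul' := fun c a => (CurveLib.secOf L).injective
        (((CurveLib.secOf L).apply_symm_apply _).trans ((hsm c a).trans
          ((CurveLib.secOf_smul (k := k) L c _).trans
            (congrArg _ ((CurveLib.secOf L).apply_symm_apply _))).symm)) }
  have hF : Function.Injective F := (injective_iff_map_eq_zero F).2 fun x hx => by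
    by_contra hne
    refine hplane (CurveLib.secOf O1 x) (fun h => hne ((CurveLib.secOf O1).injective (h.trans (map_zero _).symm))) ?_
    have h1 := congrArg (CurveLib.secOf L) hx
    exact ((CurveLib.secOf L).apply_symm_apply _).symm.trans (h1.trans (map_zero _))
  have hr : r + 1 ≤ Module.finrank k (Coh.HH X L 0) := by
    obtain ⟨e⟩ := ProjTwist.nonempty_H0 r k 1
    have h1 := LinearMap.finrank_le_finrank_of_injective hF
    have h2 : Module.finrank k (Coh.HH P O1 0) = (1 + r).choose r :=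
      e.finrank_eq.trans (S4466.finrank_forms k r 1)
    rw [h2, add_comm 1 r, Nat.choose_succ_self_right] at h1
    exact h1
  exact ⟨hL, hr⟩

attribute [local instance] Curv2.stalkAlgebra
attribute [local instance high] FunFld.Place.algRes

/-- Clifford and Riemann–Roch: a degree carrying `r + 1` sections. -/
theorem deg_cases [IsAlgClosed k] [VBLib.IsRegCurve X] (hdim : topologicalKrullDim X = 1) {L : X.Modules}
    (hL : PicF.IsInvertible L) {r : ℕ} (h : r + 1 ≤ Module.finrank k (Coh.HH X L 0)) :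
    (r : ℤ) ≤ Curv2.deg k X L 1 ∧
      ((2 * r : ℤ) ≤ Curv2.deg k X L 1 ∨ (r : ℤ) + Curv2.genus k X ≤ Curv2.deg k X L 1) := by
  have h0 := CurveFF.h0_eq_one (X := X) k hdim
  have hK := CurveFF.isFF (X := X) k hdim
  obtain ⟨e, he⟩ := CurveFF.exists_base hL
  obtain ⟨D, hD⟩ := CurveFF.exists_isDiv hdim h0 hL he
  obtain ⟨hg, hd⟩ := CurveFF.genus_and_deg hdim h0 hL he hD
  rw [CurveFF.finrank_H0_eq_ell hdim hL he hD] at h
  rw [hd, hg]
  obtain ⟨C, hC⟩ := FF.exists_canonical hK
  have hrr := FF.riemann_roch hK hC D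
  obtain ⟨z, hz, hA, -, hAd⟩ := CurveFF.exists_effective hK (D := D) (by omega)
  have hle := FF.ell_le_deg_add_one hK hA
  rw [FF.ell_add_div hK _ hz, hAd] at hle
  by_cases h1 : FunFld.ell (C - D) = 0
  · omega
  · obtain ⟨hC1, hC2⟩ := FF.canonical_deg hK hC
    have : 0 ≤ (C - D).deg := by
      by_contra hh
      exact h1 (FF.ell_eq_zero_of_deg_neg hK (by omega))
    rw [FF.deg_sub] at this
    have := FF.clifford hK (D := D) (by omega) (by omega)
    omega

/-- Degree and nondegeneracy along a finite flat cover. -/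
theorem deg_of_cover [IsAlgClosed k] {Γ : Scheme.{u}} [Γ.Over (Spec (CommRingCat.of k))]
    [IsProper (Γ ↘ Spec (CommRingCat.of k))] [IsIntegral Γ] [VBLib.IsRegCurve Γ]
    (hdim : topologicalKrullDim X = 1) (hdimΓ : topologicalKrullDim Γ = 1)
    (π : X ⟶ Γ) (hπ : π ≫ (Γ ↘ Spec (CommRingCat.of k)) = X ↘ Spec (CommRingCat.of k))
    [IsFinite π] [Flat π] {a : ℕ} (ha : ∀ y : Γ, Scheme.Hom.finrank π y = a) (ha1 : 0 < a) {r : ℕ}
    (g : Γ ⟶ CohB1.ProjSpace r k) (hg : g ≫ CohB1.ProjSpace.toSpec r k = Γ ↘ Spec (CommRingCat.of k))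
    (hnd : ∀ s : LinSer.Sect (CohB1.ProjSpace r k) (Twist.twistProjSpace r k 1), s ≠ 0 →
      OmegaSh.pullSect (π ≫ g) (Twist.twistProjSpace r k 1) ⊤ s ≠ 0) :
    ∃ e : ℤ, Curv2.deg k X ((Scheme.Modules.pullback (π ≫ g)).obj (Twist.twistProjSpace r k 1)) 1 = a * e ∧
      (r : ℤ) ≤ e ∧ ((2 * r : ℤ) ≤ e ∨ (r : ℤ) + Curv2.genus k Γ ≤ e) := by
  haveI := EulerIneqLib.isNoetherian_proper (X := Γ) k
  haveI : Surjective π := π.one_le_finrank_iff_surjective.1 (fun y => by simp [ha y]; omega)
  have hrd : π.residueDegree (genericPoint X) = a :=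
    (CurveFF.GenEtale.finrank_eq_residueDegree π (genericPoint _)).symm.trans (ha _)
  obtain ⟨hL, hh⟩ := succ_le_h0_of_nondeg g hg fun s hs h => hnd s hs (by
    have h2 := FactorSeqLib.pullSect_comp π g (Twist.twistProjSpace r k 1) ⊤ s
    rw [← h2]
    erw [h]
    erw [map_zero, map_zero])
  refine ⟨Curv2.deg k Γ ((Scheme.Modules.pullback g).obj (Twist.twistProjSpace r k 1)) 1, ?_,
    deg_cases hdimΓ hL hh⟩
  have h := Groth.Agent.S7640.result k X Γ hdim hdimΓ π hπ (CurveFF.map_generic_of_finite (k := k) hdim hdimΓ π) 1 _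
    (CurveLib.isFinLocFreeOfRank_one hL)
  rw [hrd] at h
  have e := CurveLib.euler_iso (K := k) (X := X) ((Scheme.Modules.pullbackComp π g).app (Twist.twistProjSpace r k 1))
  unfold Curv2.deg at h ⊢
  exact (congrArg (fun z : ℤ => z - ((1 : ℕ) : ℤ) * Curv2.euler k X (Coh.structureModule X)) e.symm).trans h

end Groth.Agent.CurveFormsLib
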