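import Groth.Agent.CurveFF.VeryAmple
import Groth.Agent.CurveFF.Duality
import Groth.Agent.FF.Clifford
import Groth.Agent.AmpleEmb.TwistOne
import Groth.Agent.AmpleLib.Pullback
import Groth.Prelude.Def_LefPen

/-!
# Forms on a curve in projective space as elements of Riemann–Roch spaces
-/

set_option autoImplicit false
set_option backward.isDefEq.respectTransparency false
set_option backward.isDefEq.respectTransparency.types false
set_option linter.style.haveILetI false
set_option maxHeartbeats 1000000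

universe u

open CategoryTheory CategoryTheory.Limits AlgebraicGeometry TopologicalSpace Opposite
open Groth.Agent.PullbackMod Groth.Agent.ParaFLib

noncomputable section

namespace Groth.Agent.CurveFormsLib

/-- A homogeneous polynomial takes `c ^ d` times the value at a scaled point. -/
theorem eval₂_scale {k K : Type u} [Field k] [CommRing K] {σ : Type} (φ : k →+* K) (x : σ → K) (c : K) {d : ℕ}
    {G : MvPolynomial σ k} (hG : G.IsHomogeneous d) :
    MvPolynomial.eval₂ φ (fun a => c * x a) G = c ^ d * MvPolynomial.eval₂ φ x G := by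
  induction hG using MvPolynomial.IsWeightedHomogeneous.induction_on with
  | zero => simp
  | add p q _ _ hp hq => rw [MvPolynomial.eval₂_add, MvPolynomial.eval₂_add, hp, hq, mul_add]
  | monomial m r hm =>
    rw [MvPolynomial.eval₂_monomial, MvPolynomial.eval₂_monomial]
    have hd : m.sum (fun _ e => e) = d := by
      simpa [Finsupp.weight_apply] using hm
    simp only [mul_pow, Finsupp.prod_mul, ← hd, Finsupp.sum, Finsupp.prod, Finset.prod_mul_distrib,
      Finset.prod_pow_eq_pow_sum]
    ring

section FF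

open FunFld

variable {k K : Type u} [Field k] [Field K] [Algebra k K]

theorem eval₂_mem {σ : Type} (hK : IsFunctionField k K) {D : Divisor k K} {x : σ → K}
    (hx : ∀ a, x a ∈ L D) {d : ℕ} {G : MvPolynomial σ k} (hG : G.IsHomogeneous d) :
    MvPolynomial.eval₂ (algebraMap k K) x G ∈ L ((d : ℤ) • D) := by
  have h1 : (1 : K) ∈ L ((0 : ℤ) • D) := by
    rw [zero_smul]
    intro P
    simp
  have hpow : ∀ (a : σ) (e : ℕ), x a ^ e ∈ L ((e : ℤ) • D) := fun a e => by
    induction e with
    | zero => simpa using h1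
    | succ e ih =>
      rw [pow_succ, Nat.cast_succ, add_smul, one_smul]
      exact FF.mul_mem_L ih (hx a)
  induction hG using MvPolynomial.IsWeightedHomogeneous.induction_on with
  | zero => rw [MvPolynomial.eval₂_zero]; exact zero_mem _
  | add p q _ _ hp hq => rw [MvPolynomial.eval₂_add]; exact add_mem hp hq
  | monomial m r hm =>
    have hd : m.sum (fun _ e => e) = d := by simpa [Finsupp.weight_apply] using hm
    rw [MvPolynomial.eval₂_monomial, ← Algebra.smul_def, ← hd]
    refine Submodule.smul_mem _ _ ?_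
    show ∏ a ∈ m.support, x a ^ m a ∈ L (((∑ a ∈ m.support, m a : ℕ) : ℤ) • D)
    classical
    induction m.support using Finset.induction with
    | empty => simpa using h1
    | insert a s ha ih =>
      rw [Finset.prod_insert ha, Finset.sum_insert ha, Nat.cast_add, add_smul]
      exact FF.mul_mem_L (hpow a _) ih

end FF

attribute [local instance] Curv2.stalkAlgebra
attribute [local instance high] FunFld.Place.algRes

variable {k : Type u} [Field k] [IsAlgClosed k] {X : Scheme.{u}} [X.Over (Spec (CommRingCat.of k))]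
  [IsProper (X ↘ Spec (CommRingCat.of k))] [IsIntegral X] [VBLib.IsRegCurve X]
  (hdim : topologicalKrullDim X = 1)

omit [IsAlgClosed k] [IsProper (X ↘ Spec (CommRingCat.of k))] [VBLib.IsRegCurve X] in
theorem stalkMap_cst {n : ℕ} (i : X ⟶ CohB1.ProjSpace n k)
    (hi : i ≫ CohB1.ProjSpace.toSpec n k = X ↘ Spec (CommRingCat.of k)) (x : X) (a : k) :
    i.stalkMap x (ClImmLib.cst (i x) a) = algebraMap k (X.presheaf.stalk x) a := by
  rw [ClImmLib.cst, RingHom.comp_apply, Scheme.Hom.germ_stalkMap_apply]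
  show X.presheaf.germ ⊤ x trivial _ = X.presheaf.germ ⊤ x trivial (Coh.toGlobal (X ↘ Spec (CommRingCat.of k)) a)
  congr 1
  rw [← hi]
  rfl

include hdim in
/-- Forms restrict into Riemann–Roch spaces, and those restricting to zero contain the curve. -/
theorem exists_restriction {n : ℕ} (i : X ⟶ CohB1.ProjSpace n k) [IsClosedImmersion i]
    (hi : i ≫ CohB1.ProjSpace.toSpec n k = X ↘ Spec (CommRingCat.of k)) :
    ∃ D : FunFld.Divisor k X.functionField,
      D.deg = Curv2.deg k X ((Scheme.Modules.pullback i).obj (Twist.twistProjSpace n k 1)) 1 ∧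
      ∀ d : ℕ, ∃ Φ : LefPen.Form n k d →ₗ[k] X.functionField,
        (∀ G, Φ G ∈ FunFld.L ((d : ℤ) • D)) ∧ ∀ G, Φ G = 0 → LefPen.hypIdeal G ≤ i.ker := by
  set η := genericPoint X with hη
  set L := (Scheme.Modules.pullback i).obj (Twist.twistProjSpace n k 1)
  have hL : PicF.IsInvertible L := AmpleLib.isInvertible_pullback i (AmpleEmb.isInvertible_twistOne n k)
  have h0 := CurveFF.h0_eq_one (X := X) k hdim
  have hK := CurveFF.isFF (X := X) k hdim
  obtain ⟨j, hj⟩ := ClImmLib.exists_mem_D (i η)
  have he : CurveFF.IsBase L (ClImmLib.gen i j η hj) := ClImmLib.bijective_gen i j η hj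
  obtain ⟨D, hD⟩ := CurveFF.exists_isDiv hdim h0 hL he
  refine ⟨D, (CurveFF.genus_and_deg hdim h0 hL he hD).2.symm, fun d => ?_⟩
  let Ψ : ∀ (j' : Fin (n + 1)), i η ∈ ClImmLib.D (k := k) j' → MvPolynomial (Fin (n + 1)) k →+* X.functionField :=
    fun j' h => (i.stalkMap η).hom.comp (ClImmLib.toStalk j' (i η) h)
  have hC : ∀ j' h a, Ψ j' h (MvPolynomial.C a) = algebraMap k X.functionField a := fun j' h a => by
    show i.stalkMap η (ClImmLib.toStalk j' (i η) h (MvPolynomial.C a)) = _
    rw [ClImmLib.toStalk_C]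
    exact stalkMap_cst i hi η a
  have heval : ∀ j' h G, Ψ j' h G =
      MvPolynomial.eval₂ (algebraMap k X.functionField) (fun a => Ψ j' h (MvPolynomial.X a)) G := fun j' h G =>
    RingHom.congr_fun (MvPolynomial.ringHom_ext (f := Ψ j' h)
      (g := MvPolynomial.eval₂Hom (algebraMap k X.functionField) (fun a => Ψ j' h (MvPolynomial.X a)))
      (fun a => by rw [hC, MvPolynomial.eval₂Hom_C]) (fun a => (MvPolynomial.eval₂Hom_X' (algebraMap k X.functionField) (fun b => Ψ j' h (MvPolynomial.X b)) a).symm)) G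
  have hcoord : ∀ a, Ψ j hj (MvPolynomial.X a) ∈ FunFld.L D := fun a => by
    obtain ⟨f, hf, hfe⟩ := CurveFF.VeryAmple.exists_coord hdim hL he hD
      (ProjUP.pullSec i (Twist.twistProjSpace n k 1) (ProjUP.coord n k a))
    have h2 := (ClImmLib.germ_pullSec i j a η hj).symm.trans hfe
    have h3 := he.1 h2
    show i.stalkMap η (ClImmLib.toStalk j (i η) hj (MvPolynomial.X a)) ∈ _
    rw [ClImmLib.toStalk_X, h3]
    exact hf
  have hscale : ∀ j' (h : i η ∈ ClImmLib.D (k := k) j') (G : LefPen.Form n k d), Ψ j hj G.1 = 0 → Ψ j' h G.1 = 0 := by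
    intro j' h G hG
    have hrel : ∀ a, Ψ j' h (MvPolynomial.X a) = Ψ j' h (MvPolynomial.X j) * Ψ j hj (MvPolynomial.X a) := fun a => by
      have e1 := ClImmLib.germ_pullSec i j a η hj
      have e2 := ClImmLib.germ_pullSec i j' a η h
      have e3 := ClImmLib.germ_pullSec i j' j η h
      have e4 := ClImmLib.germ_pullSec i j j η hj
      rw [ClImmLib.ρ_self, map_one, one_smul] at e4
      rw [e4] at e3
      rw [e1, e3, smul_smul] at e2
      have e5 := (ClImmLib.bijective_gen i j' η h).1 e2
      show i.stalkMap η (ClImmLib.toStalk j' (i η) h (MvPolynomial.X a)) =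
        i.stalkMap η (ClImmLib.toStalk j' (i η) h (MvPolynomial.X j)) *
          i.stalkMap η (ClImmLib.toStalk j (i η) hj (MvPolynomial.X a))
      rw [ClImmLib.toStalk_X, ClImmLib.toStalk_X, ClImmLib.toStalk_X, ← e5, mul_comm]
    rw [heval, show (fun a => Ψ j' h (MvPolynomial.X a)) =
        fun a => Ψ j' h (MvPolynomial.X j) * Ψ j hj (MvPolynomial.X a) from funext hrel,
      eval₂_scale _ _ _ ((MvPolynomial.mem_homogeneousSubmodule d _).1 G.2), ← heval, hG, mul_zero]
  refine ⟨{ toFun := fun G => Ψ j hj G.1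
            map_add' := fun a b => map_add _ _ _
            map_smul' := fun c a => ?_ }, fun G => ?_, fun G hG => ?_⟩
  · rw [SetLike.val_smul, MvPolynomial.smul_eq_C_mul, map_mul, hC, RingHom.id_apply, Algebra.smul_def]
  · show Ψ j hj G.1 ∈ _
    rw [heval]
    exact eval₂_mem hK hcoord ((MvPolynomial.mem_homogeneousSubmodule d _).1 G.2)
  refine fun U a ha => ?_
  have ha' := Scheme.IdealSheafData.ideal_ofIdeals_le (LefPen.hypFamily G) U ha
  rw [LefPen.hypFamily, Submodule.mem_iInf] at ha'
  rw [Scheme.Hom.ker_apply, RingHom.mem_ker]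
  by_cases hU : η ∈ i ⁻¹ᵁ U.1
  · obtain ⟨j', hj'⟩ := ClImmLib.exists_mem_D (i η)
    refine germ_injective_of_isIntegral X η hU ?_
    rw [map_zero, ← Scheme.Hom.germ_stalkMap_apply]
    obtain ⟨b, hb⟩ := Ideal.mem_span_singleton'.1 (Ideal.mem_comap.1 (ha' j'))
    have hmem : i η ∈ U.1 ⊓ LefPen.chart n k j' := ⟨hU, hj'⟩
    have h2 := congrArg ((CohB1.ProjSpace n k).presheaf.germ (U.1 ⊓ LefPen.chart n k j') (i η) hmem) hb
    rw [map_mul, TopCat.Presheaf.germ_res_apply, TopCat.Presheaf.germ_res_apply] at h2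
    rw [← h2, map_mul]
    have h3 : i.stalkMap η ((CohB1.ProjSpace n k).presheaf.germ (LefPen.chart n k j') (i η) hj' (LefPen.dehom G j')) =
        Ψ j' hj' G.1 := by
      show _ = i.stalkMap η ((CohB1.ProjSpace n k).presheaf.germ (ClImmLib.D (k := k) j') (i η) hj'
        (ClImmLib.awayHom j' (ProjUPLib.dehom (ClImmLib.X1 (k := k) j') G.1)))
      rw [ProjUPLib.dehom_mem (ClImmLib.X1 (k := k) j') G.1 G.2]
      rfl
    rw [h3, hscale j' hj' G hG, mul_zero]
  · exact TopCat.Presheaf.section_ext X.sheaf _ _ _ fun x hx =>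
      absurd ((genericPoint_specializes x).mem_open (i ⁻¹ᵁ U.1).2 hx) hU

end Groth.Agent.CurveFormsLib
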